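import Groth.Agent.MilnorK.K30.Iface
import Groth.Agent.MilnorK.K321.StEx
import Groth.Agent.MilnorK.K174.JThree
import Mathlib.RingTheory.DiscreteValuationRing.Basic

/-!
# From complexes of locally free modules on a scheme to complexes of families of lattices

Node (S) of the proof of S13667: the input of the theorem `alt` from exact sequences of `𝒪_X`-modules.
-/

set_option autoImplicit false
universe u

open CategoryTheory CategoryTheory.Limits AlgebraicGeometry TopologicalSpace Opposite

namespace K843.AltAsm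

open K321.Stk Groth.Agent.CycB.StalkExact

attribute [local instance] Abelian.hasFiniteBiproducts

section Fam

variable {X : Scheme.{u}} [IsIntegral X]

instance isDVR_vs (y : X) [IsDiscreteValuationRing (X.presheaf.stalk y)] : IsDiscreteValuationRing (vs y) :=
  IsDiscreteValuationRing.RingEquivClass.isDiscreteValuationRing (vsEquiv y)

instance isDVR_V (y : Pt1 X) : IsDiscreteValuationRing (V y) := isDVR_vs y.1

variable {k : Type u} [Field k] [Algebra k X.functionField]

/-- The family of the discrete valuation rings of the points of codimension one. -/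
@[simps] noncomputable def fam (hk : ∀ (y : Pt1 X) (c : k), algebraMap k X.functionField c ∈ V y) :
    K30.Fam k X.functionField where
  I := Pt1 X
  V := V
  dvr _ := inferInstance
  base := hk

variable (hk : ∀ (y : Pt1 X) (c : k), algebraMap k X.functionField c ∈ V y)

/-- The generic stalk -/
abbrev Gen (M : X.Modules) : Type u := M.presheaf.stalk (genericPoint X)

/-- The map of generic stalks -/
noncomputable abbrev gmap {M N : X.Modules} (f : M ⟶ N) : Gen M →ₗ[X.functionField] Gen N :=
  stalkLin f (genericPoint X)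

/-- The family of lattices of a finite locally free module -/
noncomputable def lat (M : X.Modules) (hM : FlatMod.IsFinLocFree M) : K30.Lat (fam hk) (Gen M) where
  L y := (Lat y.1 M).toAddSubgroup
  loc y := by
    obtain ⟨n, β, h⟩ := exists_basis_Lat y.1 hM
    refine ⟨n, β, fun x => ?_⟩
    change x ∈ Lat y.1 M ↔ _
    rw [h, β.mem_span_iff_repr_mem (vs y.1) x]
    refine forall_congr' fun j => ?_
    constructor
    · rintro ⟨a, ha⟩
      rw [← ha]
      exact a.2
    · intro h1
      exact ⟨⟨_, h1⟩, rfl⟩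

theorem mem_lat {M : X.Modules} (hM : FlatMod.IsFinLocFree M) (y : Pt1 X) (x : Gen M) :
    x ∈ (lat hk M hM).L y ↔ x ∈ Lat y.1 M := Iff.rfl

theorem mem_lat_iff {M : X.Modules} (hM : FlatMod.IsFinLocFree M) (y : Pt1 X) (x : Gen M) :
    x ∈ (lat hk M hM).L y ↔ ∃ t, sp M y.1 t = x := Iff.rfl

theorem gmap_mem {M N : X.Modules} (hM : FlatMod.IsFinLocFree M) (hN : FlatMod.IsFinLocFree N) (f : M ⟶ N)
    (y : Pt1 X) (x : Gen M) (hx : x ∈ (lat hk M hM).L y) : gmap f x ∈ (lat hk N hN).L y :=
  map_mem_Lat y.1 f hx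

theorem gmap_comp_apply {M N P : X.Modules} (f : M ⟶ N) (g : N ⟶ P) (x : Gen M) :
    gmap (f ≫ g) x = gmap g (gmap f x) := by
  rw [gmap, stalkLin_comp]
  rfl

theorem gmap_zero_apply {M N : X.Modules} (x : Gen M) : gmap (0 : M ⟶ N) x = 0 := by
  have h : stalkLin (0 : M ⟶ N) (genericPoint X) = 0 := by
    ext m
    change ((stalkFun (genericPoint X)).map (0 : M ⟶ N)).hom m = 0
    rw [Functor.map_zero]
    rfl
  rw [gmap, h]
  rfl

/-- The automorphism of the generic stalk -/
noncomputable abbrev gequiv {M N : X.Modules} (e : M ≅ N) : Gen M ≃ₗ[X.functionField] Gen N :=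
  stalkLinEquiv e (genericPoint X)

theorem gequiv_apply {M N : X.Modules} (e : M ≅ N) (x : Gen M) : gequiv e x = gmap e.hom x := rfl

theorem gequiv_mem_iff {M N : X.Modules} (hM : FlatMod.IsFinLocFree M) (hN : FlatMod.IsFinLocFree N) (e : M ≅ N)
    (y : Pt1 X) (x : Gen M) : gequiv e x ∈ (lat hk N hN).L y ↔ x ∈ (lat hk M hM).L y := by
  constructor
  · intro h
    have h1 := gmap_mem hk hN hM e.inv y _ h
    rwa [gequiv_apply, ← gmap_comp_apply, e.hom_inv_id, gmap, stalkLin_id] at h1
  · exact fun h => gmap_mem hk hM hN e.hom y x h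

/-- Automorphisms preserve the lattices. -/
theorem stab {M : X.Modules} (hM : FlatMod.IsFinLocFree M) (e : M ≅ M) : (lat hk M hM).Stab (gequiv e) :=
  fun y x => gequiv_mem_iff hk hM hM e y x

/-- Short exact sequences of finite locally free modules give short exact sequences of lattices. -/
theorem ses {M N P : X.Modules} (hM : FlatMod.IsFinLocFree M) (hN : FlatMod.IsFinLocFree N)
    (hP : FlatMod.IsFinLocFree P) {f : M ⟶ N} {g : N ⟶ P} (w : f ≫ g = 0) (h : (ShortComplex.mk f g w).ShortExact) :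
    (lat hk M hM).SES (lat hk N hN) (lat hk P hP) (gmap f) (gmap g) := by
  have h1 := stalkLin_shortExact (ShortComplex.mk f g w) h
  have hg := h1 (genericPoint X)
  exact {
    inj := hg.1
    surj := hg.2.2
    comp := fun x => (hg.2.1 _).2 ⟨x, rfl⟩
    mem_a := fun y x hx => gmap_mem hk hM hN f y x hx
    mem_b := fun y x hx => gmap_mem hk hN hP g y x hx
    exK := fun x hx => (hg.2.1 x).1 hx
    exL := fun y x hx h0 => exists_Lat_of_exact f g y.1 (sp_injective hP y.1) (h1 y.1).2.1 hx h0
    surjL := fun y z hz => exists_Lat_of_surjective g y.1 (h1 y.1).2.2 hz }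

end Fam

section Cx

variable {X : Scheme.{u}}

/-- A resolution by finite locally free modules -/
structure Res (E : X.Modules) where
  /-- the modules -/
  P : ℕ → X.Modules
  lf : ∀ n, FlatMod.IsFinLocFree (P n)
  /-- the differentials -/
  d : ∀ n, P (n + 1) ⟶ P n
  /-- the augmentation -/
  ε : P 0 ⟶ E
  dd : ∀ n, d (n + 1) ≫ d n = 0
  dε : d 0 ≫ ε = 0
  ex : ∀ n, (ShortComplex.mk (d (n + 1)) (d n) (dd n)).Exact
  exε : (ShortComplex.mk (d 0) ε dε).Exact
  epi : Epi ε

attribute [instance] Res.epi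

/-- The resolution given by a tower of covers -/
noncomputable def Res.ofTower {J : ℕ → X.Modules} {N : ℕ} {E : X.Modules} (T : K174.JCov.Tower J N E)
    (hJ : ∀ n r, FlatMod.IsFinLocFree (K174.JCov.Pw (J n) r)) : Res E where
  P n := K174.JCov.Pw (J n) (T.r n)
  lf n := hJ n _
  d := T.d
  ε := T.ε
  dd := T.d_d
  dε := T.d_ε
  ex := T.exact_d
  exε := T.exact_ε
  epi := T.epi_ε

variable [IsIntegral X] {k : Type u} [Field k] [Algebra k X.functionField]
  (hk : ∀ (y : Pt1 X) (c : k), algebraMap k X.functionField c ∈ V y)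

/-- The complex of families of lattices of a resolution of a torsion module -/
noncomputable def Res.lcx {E : X.Modules} (R : Res E) (hE : Subsingleton (E.presheaf.stalk (genericPoint X))) :
    K30.LCx (fam hk) where
  M n := Gen (R.P n)
  Λ n := lat hk (R.P n) (R.lf n)
  d n := gmap (R.d n)
  dL n y x hx := gmap_mem hk (R.lf _) (R.lf _) (R.d n) y x hx
  dd n x := by rw [← gmap_comp_apply, R.dd, gmap_zero_apply]
  surjK := fun x => (stalkLin_exact _ R.exε (genericPoint X) x).1 (Subsingleton.elim _ _)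
  exK n x hx := (stalkLin_exact _ (R.ex n) (genericPoint X) x).1 hx
  exL n y x hx h0 := exists_Lat_of_exact (R.d (n + 1)) (R.d n) y.1 (sp_injective (R.lf n) y.1)
    (stalkLin_exact _ (R.ex n) y.1) hx h0

theorem Res.acyclic {E : X.Modules} (R : Res E) (hE : Subsingleton (E.presheaf.stalk (genericPoint X)))
    (h : ∀ y : Pt1 X, Subsingleton (E.presheaf.stalk y.1)) : (R.lcx hk hE).Acyclic := by
  rintro y x ⟨t, rfl⟩
  have h1 := h y
  obtain ⟨s, hs⟩ := (stalkLin_exact _ R.exε y.1 t).1 (Subsingleton.elim _ _)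
  refine ⟨sp _ y.1 s, sp_mem_Lat y.1 s, ?_⟩
  change gmap (R.d 0) (sp _ y.1 s) = _
  rw [stalkLin_sp]
  exact congrArg _ hs

/-- Maps of complexes -/
theorem Res.comm {E F : X.Modules} (R : Res E) (T : Res F)
    (hE : Subsingleton (E.presheaf.stalk (genericPoint X))) (hF : Subsingleton (F.presheaf.stalk (genericPoint X)))
    (a : ∀ n, R.P n ⟶ T.P n) (ha : ∀ n, a (n + 1) ≫ T.d n = R.d n ≫ a n) :
    K30.LCx.Comm (R.lcx hk hE) (T.lcx hk hF) (fun n => gmap (a n)) := by
  intro n x
  change gmap (a n) (gmap (R.d n) x) = gmap (T.d n) (gmap (a (n + 1)) x)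
  rw [← gmap_comp_apply, ← gmap_comp_apply, ha]

/-- The projection of the lattice onto the stalk of the module that is resolved -/
noncomputable def Res.q {E : X.Modules} (R : Res E) (y : Pt1 X) : (lat hk (R.P 0) (R.lf 0)).L y →+ E.presheaf.stalk y.1 :=
  toStalk y.1 (R.lf 0) R.ε

theorem Res.q_sp {E : X.Modules} (R : Res E) (y : Pt1 X) (t : (R.P 0).presheaf.stalk y.1)
    (h : sp _ y.1 t ∈ (lat hk (R.P 0) (R.lf 0)).L y) : R.q hk y ⟨sp _ y.1 t, h⟩ = stalkLin R.ε y.1 t :=
  toStalk_apply y.1 (R.lf 0) R.ε t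

theorem Res.q_surjective {E : X.Modules} (R : Res E) (y : Pt1 X) : Function.Surjective (R.q hk y) :=
  toStalk_surjective y.1 (R.lf 0) R.ε (stalkLin_surjective R.ε y.1)

theorem Res.q_ker {E : X.Modules} (R : Res E) (y : Pt1 X) (x : (lat hk (R.P 0) (R.lf 0)).L y) :
    R.q hk y x = 0 ↔ ∃ z ∈ (lat hk (R.P 1) (R.lf 1)).L y, gmap (R.d 0) z = x :=
  toStalk_eq_zero_iff y.1 (R.lf 0) (R.d 0) R.ε (stalkLin_exact _ R.exε y.1) x

theorem Res.q_smul {E : X.Modules} (R : Res E) (y : Pt1 X) (c : V y) (x z : (lat hk (R.P 0) (R.lf 0)).L y)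
    (h : (z : Gen (R.P 0)) = (c : X.functionField) • (x : Gen (R.P 0))) :
    R.q hk y z = (vsEquiv y.1).symm c • R.q hk y x := by
  have h1 := toStalk_smul y.1 (R.lf 0) R.ε ((vsEquiv y.1).symm c) x
  have h2 : z = vsEquiv y.1 ((vsEquiv y.1).symm c) • (show Lat y.1 (R.P 0) from x) := by
    rw [RingEquiv.apply_symm_apply]
    exact Subtype.ext h
  rw [h2]
  exact h1

end Cx

end K843.AltAsm
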