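import Groth.Agent.MilnorK.K843.Val
import Mathlib.RingTheory.Finiteness.Basic
import Mathlib.LinearAlgebra.Basis.Basic

/-!
# Lattices over a discrete valuation ring as lattices over the corresponding valuation subring
-/

set_option autoImplicit false

namespace K843.LatV

open K843.Val Submodule

section Gen

variable {O : Type*} {K : Type*} [CommRing O] [IsDomain O] [ValuationRing O] [Field K] [Algebra O K]
  [IsFractionRing O K]
variable {W : Type*} [AddCommGroup W] [Module K W] [Module O W] [IsScalarTower O K W]
variable {W' : Type*} [AddCommGroup W'] [Module K W'] [Module O W'] [IsScalarTower O K W']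
variable {W'' : Type*} [AddCommGroup W''] [Module K W''] [Module O W''] [IsScalarTower O K W'']

theorem vsEquiv_smul (a : O) (w : W) : (vsEquiv O K a) • w = a • w := by
  change (algebraMap O K a) • w = a • w
  rw [algebraMap_smul]

theorem symm_smul (c : vs O K) (w : W) : ((vsEquiv O K).symm c) • w = c • w := by
  rw [← vsEquiv_smul (K := K), RingEquiv.apply_symm_apply]

/-- The same subgroup as module over the valuation subring -/
def toVS (L : Submodule O W) : Submodule (vs O K) W where
  carrier := L
  add_mem' := L.add_mem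
  zero_mem' := L.zero_mem
  smul_mem' c x hx := by
    rw [← symm_smul]
    exact L.smul_mem _ hx

@[simp] theorem mem_toVS (L : Submodule O W) (x : W) : x ∈ (toVS L : Submodule (vs O K) W) ↔ x ∈ L := Iff.rfl

theorem coe_toVS (L : Submodule O W) : ((toVS L : Submodule (vs O K) W) : Set W) = L := rfl

/-- The same subgroup as module over the ring -/
def ofVS (L : Submodule (vs O K) W) : Submodule O W where
  carrier := L
  add_mem' := L.add_mem
  zero_mem' := L.zero_mem
  smul_mem' c x hx := by
    rw [← vsEquiv_smul (K := K)]
    exact L.smul_mem _ hx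

@[simp] theorem mem_ofVS (L : Submodule (vs O K) W) (x : W) : x ∈ ofVS L ↔ x ∈ L := Iff.rfl

@[simp] theorem toVS_ofVS (L : Submodule (vs O K) W) : toVS (ofVS L) = L := rfl

@[simp] theorem ofVS_toVS (L : Submodule O W) : ofVS (toVS L : Submodule (vs O K) W) = L := rfl

/-- Submodules over the two rings are the same. -/
def orderIso : Submodule O W ≃o Submodule (vs O K) W where
  toFun := toVS
  invFun := ofVS
  left_inv _ := rfl
  right_inv _ := rfl
  map_rel_iff' := Iff.rfl

theorem toVS_injective : Function.Injective (toVS : Submodule O W → Submodule (vs O K) W) :=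
  (orderIso (O := O) (K := K) (W := W)).injective

theorem toVS_le_iff {L M : Submodule O W} : (toVS L : Submodule (vs O K) W) ≤ toVS M ↔ L ≤ M := Iff.rfl

@[simp] theorem toVS_bot : (toVS (⊥ : Submodule O W) : Submodule (vs O K) W) = ⊥ := rfl

@[simp] theorem toVS_top : (toVS (⊤ : Submodule O W) : Submodule (vs O K) W) = ⊤ := rfl

theorem toVS_sup (L M : Submodule O W) : (toVS (L ⊔ M) : Submodule (vs O K) W) = toVS L ⊔ toVS M :=
  (orderIso (O := O) (K := K) (W := W)).map_sup L M

theorem toVS_inf (L M : Submodule O W) : (toVS (L ⊓ M) : Submodule (vs O K) W) = toVS L ⊓ toVS M := rfl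

theorem toVS_span (s : Set W) : (toVS (span O s) : Submodule (vs O K) W) = span (vs O K) s := by
  refine le_antisymm ?_ ?_
  · rw [← toVS_ofVS (span (vs O K) s), toVS_le_iff]
    exact span_le.2 fun x hx => (mem_ofVS _ _).2 (subset_span hx)
  · exact span_le.2 fun x hx => (mem_toVS _ _).2 (subset_span hx)

theorem toVS_fg {L : Submodule O W} : (toVS L : Submodule (vs O K) W).FG ↔ L.FG := by
  constructor
  · rintro ⟨s, hs⟩
    refine ⟨s, toVS_injective (K := K) ?_⟩
    rw [toVS_span, hs]
  · rintro ⟨s, hs⟩
    exact ⟨s, by rw [← toVS_span, hs]⟩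

theorem toVS_map (f : W →ₗ[K] W') (L : Submodule O W) :
    (toVS (L.map (f.restrictScalars O)) : Submodule (vs O K) W') =
      (toVS L).map (f.restrictScalars (vs O K)) := rfl

theorem toVS_comap (f : W →ₗ[K] W') (L : Submodule O W') :
    (toVS (L.comap (f.restrictScalars O)) : Submodule (vs O K) W) =
      (toVS L).comap (f.restrictScalars (vs O K)) := rfl

/-- `K`-span -/
theorem span_toVS (L : Submodule O W) :
    span K ((toVS L : Submodule (vs O K) W) : Set W) = span K (L : Set W) := rfl

/-- The quotient of two lattices, as abelian groups -/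
noncomputable def quotEquiv (L M : Submodule O W) :
    (L ⧸ M.comap L.subtype) ≃+
      ((toVS L : Submodule (vs O K) W) ⧸ (toVS M : Submodule (vs O K) W).comap (toVS L).subtype) :=
  QuotientAddGroup.congr _ _ (AddEquiv.refl _) (by
    ext x
    simp only [AddSubgroup.mem_map]
    constructor
    · rintro ⟨y, hy, rfl⟩
      exact hy
    · intro hx
      exact ⟨x, hx, rfl⟩)

theorem quotEquiv_mk (L M : Submodule O W) (x : L) :
    quotEquiv (K := K) L M (Submodule.Quotient.mk x) =
      Submodule.Quotient.mk (⟨x.1, x.2⟩ : (toVS L : Submodule (vs O K) W)) := rfl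

end Gen

section Std

variable {O : Type*} {K : Type*} [CommRing O] [IsDomain O] [ValuationRing O] [Field K] [Algebra O K]
  [IsFractionRing O K]
variable {W : Type*} [AddCommGroup W] [Module K W] [Module O W] [IsScalarTower O K W]

/-- The standard lattice of a basis -/
theorem mem_span_basis {ι : Type*} (b : Module.Basis ι K W) (x : W) :
    x ∈ span O (Set.range b) ↔ ∀ i, b.repr x i ∈ Set.range (algebraMap O K) :=
  b.mem_span_iff_repr_mem O x

theorem mem_span_vs_basis {ι : Type*} (A : ValuationSubring K) (b : Module.Basis ι K W) (x : W) :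
    x ∈ span A (Set.range b) ↔ ∀ i, b.repr x i ∈ A := by
  rw [b.mem_span_iff_repr_mem A x]
  refine forall_congr' fun i => ?_
  constructor
  · rintro ⟨a, ha⟩
    rw [← ha]
    exact a.2
  · intro h
    exact ⟨⟨_, h⟩, rfl⟩

end Std

end K843.LatV
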